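import Groth.Agent.HTopAwn.Lift
import Groth.Agent.AssLib.FlatField
import Mathlib.AlgebraicGeometry.AffineSpace
import Mathlib.AlgebraicGeometry.Sites.Fpqc

/-!
Descent of functions to a seminormal scheme along a proper surjective morphism.
-/

set_option backward.isDefEq.respectTransparency false
set_option backward.isDefEq.respectTransparency.types false

universe u

namespace Groth.Agent.HTopAwn

open AlgebraicGeometry CategoryTheory Limits Scheme HTop

variable {X Y Z : Scheme.{u}}

theorem existsUnique_descend (hX : IsSeminormal X) (π : Y ⟶ X) [IsProper π] [Surjective π] [IsReduced Y]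
    (s : Γ(Y, ⊤)) (hs : (pullback.fst π π).appTop s = (pullback.snd π π).appTop s) :
    ∃! t : Γ(X, ⊤), π.appTop t = s := by
  haveI := isReduced_of_isSeminormal hX
  let A := 𝔸(PUnit.{u+1}; X)
  let a : A ⟶ X := 𝔸(PUnit.{u+1}; X) ↘ X
  let q : Y ⟶ A := AffineSpace.homOfVector π (fun _ => s)
  have hq : q ≫ a = π := AffineSpace.homOfVector_over _ _
  haveI : IsSeparated a := inferInstance
  haveI : IsProper q := by
    haveI : IsProper (q ≫ a) := by rw [hq]; infer_instance
    exact IsProper.of_comp q a
  let q' : Y ⟶ q.image := q.toImage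
  let c : q.image ⟶ X := q.imageι ≫ a
  have hqc : q' ≫ c = π := by rw [← Category.assoc, Scheme.Hom.toImage_imageι, hq]
  haveI : IsProper q' := by
    haveI : IsProper (q' ≫ q.imageι) := by rw [Scheme.Hom.toImage_imageι]; infer_instance
    exact IsProper.of_comp q' q.imageι
  haveI : Surjective q' := ⟨by
    rw [← Set.range_eq_univ, ← (q'.isClosedMap.isClosed_range).closure_eq]
    exact q'.denseRange.closure_range⟩
  haveI : UniversallyClosed (q' ≫ c) := by rw [hqc]; infer_instance
  haveI : UniversallyClosed c := UniversallyClosed.of_comp_surjective q' c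
  haveI : LocallyOfFiniteType c := inferInstance
  haveI : IsSeparated c := inferInstance
  haveI : IsProper c := { }
  -- the two projections agree after projecting to the image
  have hpr : pullback.fst π π ≫ q' = pullback.snd π π ≫ q' := by
    rw [← cancel_mono q.imageι, Category.assoc, Category.assoc, Scheme.Hom.toImage_imageι]
    refine AffineSpace.hom_ext ?_ fun i => ?_
    · rw [Category.assoc, Category.assoc, hq, pullback.condition]
    · simp only [q, Scheme.Hom.comp_appTop, CommRingCat.comp_apply, AffineSpace.homOfVector_appTop_coord, hs]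
  haveI : UniversallyInjective c := by
    rw [UniversallyInjective.iff_diagonal]
    refine ⟨fun w => ?_⟩
    let m : pullback π π ⟶ pullback c c :=
      pullback.map π π c c q' q' (𝟙 X) (by rw [Category.comp_id, hqc]) (by rw [Category.comp_id, hqc])
    have hm : m = (pullback.fst π π ≫ q') ≫ pullback.diagonal c := by
      apply pullback.hom_ext
      · simp [m]
      · simp [m, hpr]
    haveI : Surjective m :=
      MorphismProperty.pullback_map (P := @Surjective) (f := π) (g := π) (f' := c) (g' := c) ‹_› ‹_› hqc.symm hqc.symm
    obtain ⟨z, rfl⟩ := m.surjective w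
    exact ⟨(pullback.fst π π ≫ q') z, by rw [hm]; simp⟩
  -- a section of the image
  obtain ⟨h, hh⟩ := exists_lift_of_pointwise hX c (𝟙 X) fun x => by
    let F : π.fiber x ⟶ Spec (X.residueField x) := π.fiberToSpecResidueField x
    haveI : Flat F := AssLib.flat_over_field F
    haveI : QuasiCompact F := MorphismProperty.pullback_snd (P := @QuasiCompact) _ _ inferInstance
    haveI : Surjective F := MorphismProperty.pullback_snd (P := @Surjective) _ _ inferInstance
    have key : ∀ {W : Scheme.{u}} (g₁ g₂ : W ⟶ π.fiber x), g₁ ≫ F = g₂ ≫ F →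
        g₁ ≫ π.fiberι x ≫ q' = g₂ ≫ π.fiberι x ≫ q' := fun g₁ g₂ e => by
      have hw : (g₁ ≫ π.fiberι x) ≫ π = (g₂ ≫ π.fiberι x) ≫ π := by
        simp only [Category.assoc]
        rw [show π.fiberι x ≫ π = F ≫ X.fromSpecResidueField x from pullback.condition, reassoc_of% e]
      have := congrArg (pullback.lift _ _ hw ≫ ·) hpr
      simpa using this
    refine ⟨EffectiveEpi.desc F (π.fiberι x ≫ q') key, ?_⟩
    rw [Category.comp_id, ← cancel_epi F, ← Category.assoc, EffectiveEpi.fac, Category.assoc, hqc]
    exact pullback.condition
  have hπh : π ≫ h = q' := by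
    let m : Y ⟶ pullback c c := pullback.lift (π ≫ h) q' (by rw [Category.assoc, hh, Category.comp_id, hqc])
    haveI : Surjective (pullback.diagonal c) := (UniversallyInjective.iff_diagonal c).mp inferInstance
    haveI : Surjective (pullback.fst m (pullback.diagonal c)) :=
      MorphismProperty.pullback_fst (P := @Surjective) _ _ inferInstance
    refine ext_of_isDominant_of_isSeparated c (by rw [Category.assoc, hh, Category.comp_id, hqc])
      (pullback.fst m (pullback.diagonal c)) ?_
    have e := pullback.condition (f := m) (g := pullback.diagonal c)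
    have e₁ := congrArg (· ≫ pullback.fst c c) e
    have e₂ := congrArg (· ≫ pullback.snd c c) e
    simp only [Category.assoc, pullback.diagonal_fst, pullback.diagonal_snd, m, pullback.lift_fst, pullback.lift_snd] at e₁ e₂
    exact e₁.trans e₂.symm
  have ht : π.appTop ((h ≫ q.imageι).appTop (AffineSpace.coord X PUnit.unit)) = s := by
    rw [← CommRingCat.comp_apply, ← Scheme.Hom.comp_appTop, ← Category.assoc, hπh, Scheme.Hom.toImage_imageι]
    exact AffineSpace.homOfVector_appTop_coord _ _ _
  refine ⟨_, ht, fun t' ht' => ?_⟩
  have e : AffineSpace.homOfVector (n := PUnit.{u+1}) (𝟙 X) (fun _ => t') =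
      AffineSpace.homOfVector (𝟙 X) (fun _ => (h ≫ q.imageι).appTop (AffineSpace.coord X PUnit.unit)) := by
    refine ext_of_isDominant_of_isSeparated a (by simp [a]) π ?_
    rw [AffineSpace.comp_homOfVector, AffineSpace.comp_homOfVector]
    congr 1
    funext i
    exact ht'.trans ht.symm
  have := congrArg (fun g => g.appTop (AffineSpace.coord X PUnit.unit)) e
  simpa [AffineSpace.homOfVector_appTop_coord] using this

end Groth.Agent.HTopAwn
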